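import Mathlib

set_option linter.style.haveILetI false
set_option linter.unusedVariables false
set_option linter.unusedSectionVars false
set_option autoImplicit false
set_option backward.isDefEq.respectTransparency.types false

universe u

/-! helper7: an integral extension of domains is open at a prime over which the normalization of the base has a single prime (via freeness of the ring generated by one integral element over a normal domain) -/

namespace Groth.Agent.Helper7.OpenAtUB

open PrimeSpectrum

/-- abstract topological core: a commutative square of spectra with surjective legs, an open map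
and a closed surjective map whose fibre over the image point is a single point -/
theorem image_basicOpen_mem_nhds_aux {A A' R B C : Type u} [CommRing A] [CommRing A'] [CommRing R]
    [CommRing B] [CommRing C]
    (φ : A →+* B) (α : A →+* A') (ρ : A' →+* R) (iB : B →+* C) (iR : R →+* C)
    (hcomm : iB.comp φ = iR.comp (ρ.comp α)) (b : B) (r : R) (hbr : iB b = iR r)
    (hiB : Function.Surjective (comap iB)) (hiR : Function.Surjective (comap iR))
    (hρ : IsOpenMap (comap ρ)) (hαc : IsClosedMap (comap α)) (hαs : Function.Surjective (comap α))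
    (q : PrimeSpectrum B) (hbq : b ∉ q.asIdeal)
    (huniq : ∀ m₁ m₂ : PrimeSpectrum A', comap α m₁ = comap φ q → comap α m₂ = comap φ q →
      m₁ = m₂) :
    comap φ '' (basicOpen b : Set (PrimeSpectrum B)) ∈ nhds (comap φ q) := by
  have hcomm' : ∀ c : PrimeSpectrum C,
      comap φ (comap iB c) = comap α (comap ρ (comap iR c)) := by
    intro c
    rw [← comap_comp_apply, ← comap_comp_apply, ← comap_comp_apply, hcomm]
  have hmem : ∀ c : PrimeSpectrum C, (b ∉ (comap iB c).asIdeal ↔ r ∉ (comap iR c).asIdeal) := by
    intro c
    simp only [comap_asIdeal, Ideal.mem_comap, hbr]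
  set W : Set (PrimeSpectrum A') := comap ρ '' (basicOpen r : Set (PrimeSpectrum R)) with hW
  have hWo : IsOpen W := hρ _ (basicOpen r).isOpen
  obtain ⟨c₀, hc₀⟩ := hiB q
  have hm₀W : comap ρ (comap iR c₀) ∈ W := by
    refine ⟨comap iR c₀, ?_, rfl⟩
    show r ∉ (comap iR c₀).asIdeal
    rw [← hmem, hc₀]
    exact hbq
  have hm₀ : comap α (comap ρ (comap iR c₀)) = comap φ q := by
    rw [← hcomm', hc₀]
  have hN : IsOpen (comap α '' Wᶜ)ᶜ := (hαc _ hWo.isClosed_compl).isOpen_compl
  have hqN : comap φ q ∈ (comap α '' Wᶜ)ᶜ := by
    rintro ⟨m, hmW, hm⟩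
    exact hmW (huniq m _ hm hm₀ ▸ hm₀W)
  refine Filter.mem_of_superset (hN.mem_nhds hqN) ?_
  intro y hy
  obtain ⟨m, rfl⟩ := hαs y
  have hmW : m ∈ W := by
    by_contra h
    exact hy ⟨m, h, rfl⟩
  obtain ⟨r₁, hr₁, rfl⟩ := hmW
  obtain ⟨c₁, rfl⟩ := hiR r₁
  refine ⟨comap iB c₁, ?_, hcomm' c₁⟩
  show b ∉ (comap iB c₁).asIdeal
  rw [hmem]
  exact hr₁

/-- for an integrally closed domain `R'` and an element `x`, integral over `R'`, of a domain
containing `R'`, the spectrum of `R'[x]` maps openly to that of `R'` -/
theorem isOpenMap_comap_adjoin {R' L : Type u} [CommRing R'] [IsDomain R'] [IsIntegrallyClosed R']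
    [CommRing L] [IsDomain L] [Algebra R' L] [Module.IsTorsionFree R' L] (x : L)
    (hx : IsIntegral R' x) :
    IsOpenMap (comap (algebraMap R' (Algebra.adjoin R' ({x} : Set L)))) := by
  let pb := Algebra.adjoin.powerBasis' hx
  haveI : Module.Free R' (Algebra.adjoin R' ({x} : Set L)) := Module.Free.of_basis pb.basis
  haveI : Module.Finite R' (Algebra.adjoin R' ({x} : Set L)) := pb.finite
  haveI : Module.FinitePresentation R' (Algebra.adjoin R' ({x} : Set L)) :=
    Module.finitePresentation_of_projective _ _
  haveI : Algebra.FinitePresentation R' (Algebra.adjoin R' ({x} : Set L)) :=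
    Algebra.FinitePresentation.of_finitePresentation _ _
  exact isOpenMap_comap_of_hasGoingDown_of_finitePresentation

/-- an integral extension of domains is open at a prime `q` as soon as the integral closure of
the base in its fraction field has only one prime over the contraction of `q` -/
theorem isOpenAt_of_unique {R B : Type u} [CommRing R] [IsDomain R] [CommRing B] [IsDomain B]
    [Algebra R B] (hinj : Function.Injective (algebraMap R B)) [Algebra.IsIntegral R B]
    (K : Type u) [Field K] [Algebra R K] [IsFractionRing R K] (q : PrimeSpectrum B)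
    (huniq : ∀ Q₁ Q₂ : Ideal (integralClosure R K), Q₁.IsPrime → Q₂.IsPrime →
      Q₁.comap (algebraMap R (integralClosure R K)) = q.asIdeal.comap (algebraMap R B) →
      Q₂.comap (algebraMap R (integralClosure R K)) = q.asIdeal.comap (algebraMap R B) →
      Q₁ = Q₂) :
    ∀ U ∈ nhds q, comap (algebraMap R B) '' U ∈ nhds (comap (algebraMap R B) q) := by
  classical
  intro U hU
  obtain ⟨t, ⟨b, rfl⟩, hqt, htU⟩ := isTopologicalBasis_basic_opens.mem_nhds_iff.mp hU
  refine Filter.mem_of_superset ?_ (Set.image_mono htU)
  have hbq : b ∉ q.asIdeal := hqt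
  let L := FractionRing B
  have hRL : Function.Injective (algebraMap R L) := by
    rw [IsScalarTower.algebraMap_eq R B L]
    exact (IsFractionRing.injective B L).comp hinj
  let κ : K →+* L := IsFractionRing.lift hRL
  letI : Algebra K L := κ.toAlgebra
  haveI : IsScalarTower R K L := IsScalarTower.of_algebraMap_eq' (by
    ext r
    simp [RingHom.algebraMap_toAlgebra, κ])
  let R' := integralClosure R K
  let C := integralClosure R L
  haveI : IsIntegrallyClosed R' := integralClosure.isIntegrallyClosedOfFiniteExtension K (L := K)
  have hR'L : Function.Injective (algebraMap R' L) := by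
    rw [IsScalarTower.algebraMap_eq R' K L]
    exact (algebraMap K L).injective.comp Subtype.val_injective
  haveI : Module.IsTorsionFree R' L := Module.isTorsionFree_iff_algebraMap_injective.mpr hR'L
  let x : L := algebraMap B L b
  have hxR : IsIntegral R x := (Algebra.IsIntegral.isIntegral b).map (IsScalarTower.toAlgHom R B L)
  have hx : IsIntegral R' x := hxR.tower_top
  let S := Algebra.adjoin R' ({x} : Set L)
  haveI : Algebra.IsIntegral R' S := Algebra.IsIntegral.adjoin (by
    rintro y (rfl : y = x)
    exact hx)
  have hSint : ∀ s : S, IsIntegral R (s : L) := by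
    intro s
    have h1 : IsIntegral R' (s : L) :=
      (Algebra.IsIntegral.isIntegral (R := R') s).map S.val
    exact isIntegral_trans _ h1
  let iB : B →+* C := (algebraMap B L).codRestrict C.toSubring
    (fun b' => (Algebra.IsIntegral.isIntegral b').map (IsScalarTower.toAlgHom R B L))
  let iR : S →+* C := (S.val : S →+* L).codRestrict C.toSubring hSint
  have hiBinj : Function.Injective iB := by
    intro a₁ a₂ h
    exact IsFractionRing.injective B L (congrArg Subtype.val h)
  have hiRinj : Function.Injective iR := by
    intro a₁ a₂ h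
    have h1 : (a₁ : L) = (a₂ : L) := congrArg (fun c : C => (c : L)) h
    exact Subtype.ext h1
  have hcomm : iB.comp (algebraMap R B) =
      iR.comp ((algebraMap R' S).comp (algebraMap R R')) := by
    ext r
    show algebraMap B L (algebraMap R B r) = algebraMap R' L (algebraMap R R' r)
    rw [← IsScalarTower.algebraMap_apply, ← IsScalarTower.algebraMap_apply]
  have hCint : (iB.comp (algebraMap R B)).IsIntegral := by
    intro c
    have h1 : IsIntegral R c := Algebra.IsIntegral.isIntegral c
    have h2 : iB.comp (algebraMap R B) = algebraMap R C := by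
      ext r
      show algebraMap B L (algebraMap R B r) = algebraMap R L r
      rw [← IsScalarTower.algebraMap_apply]
    rw [h2]
    exact h1
  have hiBint : iB.IsIntegral := RingHom.IsIntegral.tower_top _ _ hCint
  have hiRint : iR.IsIntegral := RingHom.IsIntegral.tower_top _ _ (hcomm ▸ hCint)
  have key := image_basicOpen_mem_nhds_aux (algebraMap R B) (algebraMap R R') (algebraMap R' S)
    iB iR hcomm b ⟨x, Algebra.subset_adjoin rfl⟩ (Subtype.ext rfl)
    (hiBint.comap_surjective hiBinj) (hiRint.comap_surjective hiRinj)
    (isOpenMap_comap_adjoin x hx)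
    (isClosedMap_comap_of_isIntegral _ (algebraMap_isIntegral_iff.mpr inferInstance))
    (Algebra.IsIntegral.comap_surjective R R') q hbq
    (fun m₁ m₂ h₁ h₂ => PrimeSpectrum.ext (huniq m₁.asIdeal m₂.asIdeal m₁.2 m₂.2
      (congrArg PrimeSpectrum.asIdeal h₁) (congrArg PrimeSpectrum.asIdeal h₂)))
  exact key

end Groth.Agent.Helper7.OpenAtUB
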