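import Mathlib
import Groth.Prelude.Def_Brnch
import Groth.Agent.Lib.Helper4.ChevCrit1
import Groth.Agent.Lib.Helper7.OpenAtUB.Core

set_option linter.style.haveILetI false
set_option linter.unusedVariables false
set_option linter.unusedSectionVars false
set_option autoImplicit false
set_option backward.isDefEq.respectTransparency.types false
set_option synthInstance.maxHeartbeats 400000

universe u

/-! helper7: integral and quasi-finite finite type ring maps are open at primes over unibranch points (using helper4 branch counting and the saturation ideals of the integral closure) -/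

namespace Groth.Agent.Helper7.OpenAtUB

open PrimeSpectrum
open Groth.Agent.Lib.Helper4.BranchCount1 Groth.Agent.Lib.Helper4.RadBir1
open Groth.Agent.Lib.Helper4.ChevCrit1

/-- an integral ring map to a domain whose kernel lies in every prime is open at a prime lying
over a unibranch point -/
theorem isOpenAt_of_unibranch {A₀ B : Type u} [CommRing A₀] [CommRing B] [IsDomain B]
    [Algebra A₀ B] [Algebra.IsIntegral A₀ B] (q : PrimeSpectrum B)
    (p : Ideal A₀) [p.IsPrime] (hqp : q.asIdeal.comap (algebraMap A₀ B) = p)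
    (hker : ∀ P : Ideal A₀, P.IsPrime → RingHom.ker (algebraMap A₀ B) ≤ P)
    (A : Type u) [CommRing A] [IsLocalRing A] [Algebra A₀ A] [IsLocalization.AtPrime A p]
    (hA : CAlg2.IsUnibranch A) :
    ∀ U ∈ nhds q, comap (algebraMap A₀ B) '' U ∈ nhds (comap (algebraMap A₀ B) q) := by
  classical
  obtain ⟨P₀, hP₀def⟩ : ∃ P₀ : Ideal A₀, P₀ = RingHom.ker (algebraMap A₀ B) := ⟨_, rfl⟩
  haveI hP₀ : P₀.IsPrime := hP₀def ▸ RingHom.ker_isPrime _
  have hP₀p : P₀ ≤ p := by
    rw [hP₀def, ← hqp]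
    exact Ideal.comap_mono bot_le
  have hmin : ∀ P : Ideal A₀, P.IsPrime → P ≤ p → P₀ ≤ P := by
    intro P hP _
    rw [hP₀def]
    exact hker P hP
  haveI : IsDomain (A₀ ⧸ P₀) := Ideal.Quotient.isDomain _
  let lft : A₀ ⧸ P₀ →+* B := Ideal.Quotient.lift P₀ (algebraMap A₀ B) (by
    intro a ha
    rw [hP₀def] at ha
    exact ha)
  letI : Algebra (A₀ ⧸ P₀) B := lft.toAlgebra
  haveI : IsScalarTower A₀ (A₀ ⧸ P₀) B := IsScalarTower.of_algebraMap_eq' (by
    ext a
    rfl)
  have hlinj : Function.Injective (algebraMap (A₀ ⧸ P₀) B) := by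
    rw [injective_iff_map_eq_zero]
    intro a ha
    obtain ⟨a, rfl⟩ := Ideal.Quotient.mk_surjective a
    have h1 : algebraMap A₀ B a = 0 := ha
    rw [Ideal.Quotient.eq_zero_iff_mem, hP₀def]
    exact h1
  haveI : Algebra.IsIntegral (A₀ ⧸ P₀) B := Algebra.IsIntegral.tower_top (R := A₀)
  -- uniqueness from unibranch
  have hnb : Brnch.numBranches A = 1 := (S9235_main A).mpr hA
  rw [numBranches_gen p P₀ hP₀p hmin A (K := FractionRing (A₀ ⧸ P₀))
    (N := integralClosure (A₀ ⧸ P₀) (FractionRing (A₀ ⧸ P₀)))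
    Subtype.val_injective (fun z hz => ⟨⟨z, hz⟩, rfl⟩)] at hnb
  have hsub := (ENat.card_le_one_iff_subsingleton _).mp hnb.le
  have hpbar : q.asIdeal.comap (algebraMap (A₀ ⧸ P₀) B) = p.map (Ideal.Quotient.mk P₀) := by
    rw [← hqp, IsScalarTower.algebraMap_eq A₀ (A₀ ⧸ P₀) B, ← Ideal.comap_comap,
      Ideal.Quotient.algebraMap_eq,
      Ideal.map_comap_of_surjective _ Ideal.Quotient.mk_surjective]
  have huniq : ∀ Q₁ Q₂ : Ideal (integralClosure (A₀ ⧸ P₀) (FractionRing (A₀ ⧸ P₀))),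
      Q₁.IsPrime → Q₂.IsPrime →
      Q₁.comap (algebraMap (A₀ ⧸ P₀) _) = q.asIdeal.comap (algebraMap (A₀ ⧸ P₀) B) →
      Q₂.comap (algebraMap (A₀ ⧸ P₀) _) = q.asIdeal.comap (algebraMap (A₀ ⧸ P₀) B) →
      Q₁ = Q₂ := by
    intro Q₁ Q₂ hQ₁ hQ₂ h₁ h₂
    rw [hpbar] at h₁ h₂
    have e1 : Q₁.comap ((algebraMap (A₀ ⧸ P₀) _).comp (Ideal.Quotient.mk P₀)) = p := by
      rw [← Ideal.comap_comap, h₁, comap_map_mk p P₀ hP₀p]
    have e2 : Q₂.comap ((algebraMap (A₀ ⧸ P₀) _).comp (Ideal.Quotient.mk P₀)) = p := by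
      rw [← Ideal.comap_comap, h₂, comap_map_mk p P₀ hP₀p]
    exact congrArg Subtype.val (hsub.elim ⟨Q₁, hQ₁, e1⟩ ⟨Q₂, hQ₂, e2⟩)
  have hcore := isOpenAt_of_unique (R := A₀ ⧸ P₀) (B := B) hlinj (FractionRing (A₀ ⧸ P₀)) q huniq
  -- the spectrum of the quotient
  have hemb : Topology.IsClosedEmbedding (comap (Ideal.Quotient.mk P₀)) :=
    isClosedEmbedding_comap_of_surjective _ _ Ideal.Quotient.mk_surjective
  have hsurj : Function.Surjective (comap (Ideal.Quotient.mk P₀)) := by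
    rw [← Set.range_eq_univ, range_comap_of_surjective _ _ Ideal.Quotient.mk_surjective,
      Ideal.mk_ker]
    ext P
    simp only [mem_zeroLocus, SetLike.coe_subset_coe, Set.mem_univ, iff_true]
    rw [hP₀def]
    exact hker P.asIdeal P.2
  have hopen : IsOpenMap (comap (Ideal.Quotient.mk P₀)) :=
    (hemb.isEmbedding.isOpenEmbedding_of_surjective hsurj).isOpenMap
  have hcomp : comap (algebraMap A₀ B) =
      comap (Ideal.Quotient.mk P₀) ∘ comap (algebraMap (A₀ ⧸ P₀) B) := by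
    rw [IsScalarTower.algebraMap_eq A₀ (A₀ ⧸ P₀) B]
    rfl
  intro U hU
  rw [hcomp, Set.image_comp]
  exact hopen.image_mem_nhds (hcore U hU)

/-- a finite type ring map with irreducible source spectrum, whose "generic kernel" lies in every
prime of the base, is open at a prime where it is quasi-finite and which lies over a unibranch
point -/
theorem isOpenAt_of_quasiFiniteAt {A₀ S₀ : Type u} [CommRing A₀] [CommRing S₀] [Algebra A₀ S₀]
    [Algebra.FiniteType A₀ S₀] (q : PrimeSpectrum S₀) [Algebra.QuasiFiniteAt A₀ q.asIdeal]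
    (p : Ideal A₀) [p.IsPrime] (hqp : q.asIdeal.comap (algebraMap A₀ S₀) = p)
    (hnil : (nilradical S₀).IsPrime)
    (hdom : ∀ P : Ideal A₀, P.IsPrime → (nilradical S₀).comap (algebraMap A₀ S₀) ≤ P)
    (A : Type u) [CommRing A] [IsLocalRing A] [Algebra A₀ A] [IsLocalization.AtPrime A p]
    (hA : CAlg2.IsUnibranch A) :
    ∀ U ∈ nhds q, comap (algebraMap A₀ S₀) '' U ∈ nhds (comap (algebraMap A₀ S₀) q) := by
  classical
  obtain ⟨r, hrq, hr, H⟩ := Algebra.zariskisMainProperty_iff.mp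
    (Algebra.ZariskisMainProperty.of_finiteType (R := A₀) q.asIdeal)
  -- the integral closure and its reduction
  obtain ⟨N', hN'def⟩ : ∃ N' : Ideal (integralClosure A₀ S₀),
      N' = (nilradical S₀).comap (algebraMap (integralClosure A₀ S₀) S₀) := ⟨_, rfl⟩
  haveI hN' : N'.IsPrime := hN'def ▸ Ideal.comap_isPrime _ _
  obtain ⟨q', hq'def⟩ : ∃ q' : Ideal (integralClosure A₀ S₀),
      q' = q.asIdeal.comap (algebraMap (integralClosure A₀ S₀) S₀) := ⟨_, rfl⟩
  haveI hq' : q'.IsPrime := hq'def ▸ Ideal.comap_isPrime _ _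
  have hN'q' : N' ≤ q' := by
    rw [hN'def, hq'def]
    exact Ideal.comap_mono (nilradical_le_prime q.asIdeal)
  have htower : (algebraMap (integralClosure A₀ S₀) S₀).comp
      (algebraMap A₀ (integralClosure A₀ S₀)) = algebraMap A₀ S₀ :=
    (IsScalarTower.algebraMap_eq A₀ (integralClosure A₀ S₀) S₀).symm
  haveI : IsDomain (integralClosure A₀ S₀ ⧸ N') := Ideal.Quotient.isDomain _
  have hcm : ∀ Q : Ideal (integralClosure A₀ S₀), N' ≤ Q →
      (Q.map (Ideal.Quotient.mk N')).comap (Ideal.Quotient.mk N') = Q := by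
    intro Q hQ
    rw [Ideal.comap_map_of_surjective _ Ideal.Quotient.mk_surjective, ← RingHom.ker_eq_comap_bot,
      Ideal.mk_ker]
    exact sup_eq_left.mpr hQ
  haveI hqbar : (q'.map (Ideal.Quotient.mk N')).IsPrime :=
    Ideal.map_isPrime_of_surjective Ideal.Quotient.mk_surjective (by rw [Ideal.mk_ker]; exact hN'q')
  have hsq : algebraMap A₀ (integralClosure A₀ S₀ ⧸ N') =
      (Ideal.Quotient.mk N').comp (algebraMap A₀ (integralClosure A₀ S₀)) := by
    ext a
    rfl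
  have hq'p : q'.comap (algebraMap A₀ (integralClosure A₀ S₀)) = p := by
    rw [hq'def, Ideal.comap_comap, htower, hqp]
  have hqbarp : (q'.map (Ideal.Quotient.mk N')).comap
      (algebraMap A₀ (integralClosure A₀ S₀ ⧸ N')) = p := by
    rw [hsq, ← Ideal.comap_comap, hcm q' hN'q', hq'p]
  have hker : ∀ P : Ideal A₀, P.IsPrime →
      RingHom.ker (algebraMap A₀ (integralClosure A₀ S₀ ⧸ N')) ≤ P := by
    intro P hP a ha
    apply hdom P hP
    rw [RingHom.mem_ker, hsq, RingHom.comp_apply, Ideal.Quotient.eq_zero_iff_mem, hN'def,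
      Ideal.mem_comap, ← RingHom.comp_apply, htower] at ha
    exact ha
  have hG := isOpenAt_of_unibranch (A₀ := A₀) (B := integralClosure A₀ S₀ ⧸ N')
    ⟨q'.map (Ideal.Quotient.mk N'), hqbar⟩ p hqbarp hker A hA
  have hpt : comap (algebraMap A₀ (integralClosure A₀ S₀ ⧸ N'))
      ⟨q'.map (Ideal.Quotient.mk N'), hqbar⟩ = comap (algebraMap A₀ S₀) q :=
    PrimeSpectrum.ext (hqbarp.trans hqp.symm)
  intro U hU
  obtain ⟨t, ⟨g, rfl⟩, hqt, htU⟩ := isTopologicalBasis_basic_opens.mem_nhds_iff.mp hU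
  have hgq : g ∉ q.asIdeal := hqt
  obtain ⟨m, hm⟩ := H g
  have hg'int : IsIntegral A₀ (r * (r ^ m * g)) := hr.mul hm
  have hg'q : (⟨r * (r ^ m * g), hg'int⟩ : integralClosure A₀ S₀) ∉ q' := by
    rw [hq'def, Ideal.mem_comap]
    show r * (r ^ m * g) ∉ q.asIdeal
    intro h
    rcases q.2.mem_or_mem h with h1 | h1
    · exact hrq h1
    · rcases q.2.mem_or_mem h1 with h2 | h2
      · exact hrq (q.2.mem_of_pow_mem m h2)
      · exact hgq h2
  have hmemU' : (⟨q'.map (Ideal.Quotient.mk N'), hqbar⟩ : PrimeSpectrum _) ∈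
      (basicOpen (Ideal.Quotient.mk N' ⟨r * (r ^ m * g), hg'int⟩) : Set (PrimeSpectrum _)) := by
    show Ideal.Quotient.mk N' _ ∉ q'.map (Ideal.Quotient.mk N')
    intro h
    have h1 : (⟨r * (r ^ m * g), hg'int⟩ : integralClosure A₀ S₀) ∈
        (q'.map (Ideal.Quotient.mk N')).comap (Ideal.Quotient.mk N') := h
    rw [hcm q' hN'q'] at h1
    exact hg'q h1
  have h1 := hG _ ((basicOpen _).isOpen.mem_nhds hmemU')
  rw [hpt] at h1
  refine Filter.mem_of_superset h1 ?_
  rintro _ ⟨Qb, hQb, rfl⟩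
  obtain ⟨Q', hQ'def⟩ : ∃ Q' : Ideal (integralClosure A₀ S₀),
      Q' = Qb.asIdeal.comap (Ideal.Quotient.mk N') := ⟨_, rfl⟩
  haveI hQ' : Q'.IsPrime := hQ'def ▸ Ideal.comap_isPrime _ _
  have hgQ' : (⟨r * (r ^ m * g), hg'int⟩ : integralClosure A₀ S₀) ∉ Q' := by
    rw [hQ'def, Ideal.mem_comap]
    exact hQb
  have hrQ' : (⟨r, hr⟩ : integralClosure A₀ S₀) ∉ Q' := by
    intro h
    apply hgQ'
    have e : (⟨r * (r ^ m * g), hg'int⟩ : integralClosure A₀ S₀) = ⟨r, hr⟩ * ⟨r ^ m * g, hm⟩ :=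
      Subtype.ext rfl
    rw [e]
    exact Q'.mul_mem_right _ h
  haveI hQ : (satIdeal r hr H Q').IsPrime := satIdeal_isPrime r hr H Q' hrQ'
  have hQc := satIdeal_comap r hr H Q' hrQ'
  refine ⟨⟨satIdeal r hr H Q', hQ⟩, htU ?_, ?_⟩
  · show g ∉ satIdeal r hr H Q'
    intro h
    apply hgQ'
    rw [← hQc, Ideal.mem_comap]
    show r * (r ^ m * g) ∈ satIdeal r hr H Q'
    exact Ideal.mul_mem_left _ _ (Ideal.mul_mem_left _ _ h)
  · apply PrimeSpectrum.ext
    show (satIdeal r hr H Q').comap (algebraMap A₀ S₀) =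
      Qb.asIdeal.comap (algebraMap A₀ (integralClosure A₀ S₀ ⧸ N'))
    rw [← htower, ← Ideal.comap_comap, hQc, hsq, ← Ideal.comap_comap, hQ'def]

end Groth.Agent.Helper7.OpenAtUB
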