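import Mathlib
import Groth.Prelude.Def_Brnch
import Groth.Prelude.Def_EGA43
import Groth.Agent.Lib.Helper4.ChevCrit1
import Groth.Agent.Lib.Helper7.OpenAtUB.Gen

set_option linter.style.haveILetI false
set_option linter.unusedVariables false
set_option linter.unusedSectionVars false
set_option autoImplicit false
set_option backward.isDefEq.respectTransparency.types false
set_option synthInstance.maxHeartbeats 400000

universe u

/-! helper7: a dominant morphism of irreducible schemes, locally of finite type, is open at a point isolated in its fibre over a unibranch point -/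

namespace Groth.Agent.Helper7.OpenAtUB

open CategoryTheory AlgebraicGeometry PrimeSpectrum
open Groth.Agent.Lib.Helper4.ChevCrit1

/-- a point isolated in its fibre is a point of quasi-finiteness -/
theorem quasiFiniteAt_of_isolated {X Y : Scheme.{u}} (f : X ⟶ Y) [LocallyOfFiniteType f] (x : X)
    (hiso : nhdsWithin x (f.base ⁻¹' {f.base x}) = pure x) : f.QuasiFiniteAt x := by
  have hqf : f.QuasiFiniteAt x ↔
      IsOpen ({⟨x, Set.mem_singleton (f.base x)⟩} : Set ↥(f.base ⁻¹' {f.base x})) := by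
    rw [Scheme.Hom.quasiFiniteAt_iff_isOpen_singleton_asFiber,
      ← (f.fiberHomeo (f x)).isOpen_image]
    simp only [Set.image_singleton, Scheme.Hom.asFiber, Homeomorph.apply_symm_apply]
  rw [hqf]
  have h1 : ({x} : Set X) ∈ nhdsWithin x (f.base ⁻¹' {f.base x}) := by
    rw [hiso]
    exact Filter.mem_pure.mpr rfl
  obtain ⟨W, hWo, hxW, hWs⟩ := mem_nhdsWithin.mp h1
  have h2 : ({⟨x, Set.mem_singleton (f.base x)⟩} : Set ↥(f.base ⁻¹' {f.base x})) =
      Subtype.val ⁻¹' W := by
    ext z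
    constructor
    · rintro rfl
      exact hxW
    · intro hz
      have h3 : z.1 ∈ ({x} : Set X) := hWs ⟨hz, z.2⟩
      exact Subtype.ext h3
  rw [h2]
  exact hWo.preimage continuous_subtype_val

/-- a dominant morphism of irreducible schemes, locally of finite type, is open at a point which
is isolated in its fibre and lies over a unibranch point -/
theorem isOpenAt_of_isolated {X Y : Scheme.{u}} (f : X ⟶ Y) [IrreducibleSpace X]
    [IrreducibleSpace Y] [LocallyOfFiniteType f] (hdr : DenseRange f.base) (x : X)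
    (hiso : nhdsWithin x (f.base ⁻¹' {f.base x}) = pure x)
    (hy : CAlg2.IsUnibranch (Y.presheaf.stalk (f.base x))) : EGA43.IsOpenAt f.base x := by
  have hqf := quasiFiniteAt_of_isolated f x hiso
  haveI : IsDominant f := ⟨hdr⟩
  obtain ⟨V, U, hV, hU, e, hxU, hxV⟩ := Groth.Agent.Lib.Helper4.UOp.exists_affine_charts f x
  obtain ⟨φ, hφ⟩ : ∃ φ : Γ(Y, V) ⟶ Γ(X, U), φ = f.appLE V U e := ⟨_, rfl⟩
  have hsq : Spec.map φ ≫ hV.fromSpec = hU.fromSpec ≫ f := by
    rw [hφ]; exact IsAffineOpen.SpecMap_appLE_fromSpec f hV hU e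
  have hsq' : ∀ q : Spec Γ(X, U),
      hV.fromSpec.base ((Spec.map φ).base q) = f.base (hU.fromSpec.base q) := by
    intro q
    rw [← TopCat.comp_app, ← Scheme.Hom.comp_base, hsq, Scheme.Hom.comp_base, TopCat.comp_app]
  have hVemb : Topology.IsOpenEmbedding hV.fromSpec.base := hV.fromSpec.isOpenEmbedding
  have hUemb : Topology.IsOpenEmbedding hU.fromSpec.base := hU.fromSpec.isOpenEmbedding
  -- points
  obtain ⟨q, hqdef⟩ : ∃ q : Spec Γ(X, U), q = hU.primeIdealOf ⟨x, hxU⟩ := ⟨_, rfl⟩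
  have hqx : hU.fromSpec.base q = x := by rw [hqdef]; exact hU.fromSpec_primeIdealOf ⟨x, hxU⟩
  obtain ⟨p, hpdef⟩ : ∃ p : Spec Γ(Y, V), p = hV.primeIdealOf ⟨f.base x, e hxU⟩ := ⟨_, rfl⟩
  have hpx : hV.fromSpec.base p = f.base x := by
    rw [hpdef]; exact hV.fromSpec_primeIdealOf ⟨f.base x, e hxU⟩
  have hqp : (Spec.map φ).base q = p := by
    apply hVemb.injective
    rw [hsq', hqx, hpx]
  -- the generic point
  have hζU : genericPoint X ∈ (U : Set X) := (genericPoint_specializes x).mem_open U.2 hxU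
  obtain ⟨q₀, hq₀⟩ : genericPoint X ∈ Set.range hU.fromSpec.base := by
    rw [hU.range_fromSpec]; exact hζU
  have hq₀le : ∀ Q : Spec Γ(X, U), q₀.asIdeal ≤ Q.asIdeal := by
    intro Q
    have h : q₀ ⤳ Q := hUemb.isInducing.specializes_iff.1 (by
      rw [hq₀]; exact genericPoint_specializes _)
    exact (PrimeSpectrum.le_iff_specializes q₀ Q).2 h
  have hq₀nil : q₀.asIdeal = nilradical Γ(X, U) := by
    apply le_antisymm
    · rw [nilradical_eq_sInf]
      apply le_sInf
      intro J hJ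
      exact hq₀le ⟨J, hJ⟩
    · exact nilradical_le_prime _
  have hnil : (nilradical Γ(X, U)).IsPrime := hq₀nil ▸ q₀.2
  -- algebra structures
  letI alg : Algebra Γ(Y, V) Γ(X, U) := φ.hom.toAlgebra
  haveI ft : Algebra.FiniteType Γ(Y, V) Γ(X, U) := by
    have := LocallyOfFiniteType.finiteType_appLE f hV hU e
    rw [← hφ] at this
    exact this
  haveI : Algebra.QuasiFiniteAt Γ(Y, V) q.asIdeal := by
    have := hqf.quasiFiniteAt hU hV e hxU
    rw [← hφ, ← hqdef] at this
    exact this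
  letI algst : Algebra Γ(Y, V) (Y.presheaf.stalk (f.base x)) :=
    TopCat.Presheaf.algebra_section_stalk Y.presheaf ⟨f.base x, e hxU⟩
  haveI hloc : IsLocalization.AtPrime (Y.presheaf.stalk (f.base x)) p.asIdeal := by
    rw [hpdef]
    exact hV.isLocalization_stalk ⟨f.base x, e hxU⟩
  have hdom : ∀ P : Ideal Γ(Y, V), P.IsPrime →
      (nilradical Γ(X, U)).comap (algebraMap Γ(Y, V) Γ(X, U)) ≤ P := by
    intro P hP
    rw [← hq₀nil]
    have h3 : f.base (genericPoint X) ⤳ hV.fromSpec.base ⟨P, hP⟩ :=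
      map_genericPoint_specializes f _
    rw [← hq₀, ← hsq'] at h3
    have h4 : (Spec.map φ).base q₀ ⤳ (⟨P, hP⟩ : Spec Γ(Y, V)) :=
      hVemb.isInducing.specializes_iff.1 h3
    exact (PrimeSpectrum.le_iff_specializes ((Spec.map φ).base q₀)
      (⟨P, hP⟩ : PrimeSpectrum Γ(Y, V))).2 h4
  have key := isOpenAt_of_quasiFiniteAt (A₀ := Γ(Y, V)) (S₀ := Γ(X, U)) q p.asIdeal
    (congrArg PrimeSpectrum.asIdeal hqp) hnil hdom (Y.presheaf.stalk (f.base x)) hy
  -- transfer
  intro W hW
  have hW' : hU.fromSpec.base ⁻¹' W ∈ nhds q := by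
    apply hU.fromSpec.base.hom.continuous.continuousAt
    rw [hqx]
    exact hW
  have h1 := key _ hW'
  have h2 : hV.fromSpec.base '' ((Spec.map φ).base '' (hU.fromSpec.base ⁻¹' W)) ∈
      nhds (hV.fromSpec.base ((Spec.map φ).base q)) :=
    hVemb.isOpenMap.image_mem_nhds h1
  rw [hqp, hpx] at h2
  refine Filter.mem_of_superset h2 ?_
  rintro _ ⟨_, ⟨z, hz, rfl⟩, rfl⟩
  exact ⟨hU.fromSpec.base z, hz, (hsq' z).symm⟩

end Groth.Agent.Helper7.OpenAtUB
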